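import Groth.Prelude.Def_EGA41
import Mathlib.RingTheory.Flat.FaithfullyFlat.Basic
import Mathlib.LinearAlgebra.TensorProduct.RightExactness

/-!
# Formal smoothness for adic topologies: reduction to square-zero ideals, projectivity, descent
-/

set_option autoImplicit false
set_option backward.isDefEq.respectTransparency false

universe u

open TensorProduct

namespace Groth.Agent.Lib.AdicSmoothModule

open EGA41 (IsFormallySmoothAdic)

variable {A B : Type u} [CommRing A] [CommRing B] [Algebra A B] {𝔞 : Ideal A} {𝔟 : Ideal B}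

/-- It is enough to lift along ideals killed by themselves and by `𝔞`. -/
theorem of_special
    (h : ∀ (C : Type u) [CommRing C] [Algebra A C] (J : Ideal C), J * J = ⊥ →
      𝔞.map (algebraMap A C) * J = ⊥ → (∃ k : ℕ, (𝔞 ^ k).map (algebraMap A C) = ⊥) →
      ∀ u : B →ₐ[A] C ⧸ J, (∃ k : ℕ, ∀ x ∈ 𝔟 ^ k, u x = 0) →
        ∃ v : B →ₐ[A] C, (Ideal.Quotient.mkₐ A J).comp v = u) :
    IsFormallySmoothAdic A 𝔞 B 𝔟 := by
  suffices main : ∀ (n : ℕ) (C : Type u) [CommRing C] [Algebra A C] (J : Ideal C),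
      (J ⊔ 𝔞.map (algebraMap A C)) ^ n * J = ⊥ → (∃ k : ℕ, (𝔞 ^ k).map (algebraMap A C) = ⊥) →
      ∀ u : B →ₐ[A] C ⧸ J, (∃ k : ℕ, ∀ x ∈ 𝔟 ^ k, u x = 0) →
        ∃ v : B →ₐ[A] C, (Ideal.Quotient.mkₐ A J).comp v = u by
    intro C _ _ J hJ ha u hu
    obtain ⟨n, hn⟩ := hJ
    obtain ⟨k, hk⟩ := ha
    refine main (n + k) C J ?_ ⟨k, hk⟩ u hu
    have h0 : (J ⊔ 𝔞.map (algebraMap A C)) ^ (n + k) ≤ ⊥ :=
      Ideal.sup_pow_add_le_pow_sup_pow.trans
        (sup_le hn.le (le_of_eq (by rw [← Ideal.map_pow, hk])))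
    rw [le_bot_iff.1 h0, Ideal.bot_mul]
  intro n
  induction n with
  | zero =>
    intro C _ _ J hJ _ u _
    rw [pow_zero, Ideal.one_eq_top, Ideal.top_mul] at hJ
    subst hJ
    exact ⟨(AlgEquiv.quotientBot A C : (C ⧸ (⊥ : Ideal C)) →ₐ[A] C).comp u,
      AlgHom.ext fun b ↦ by
        obtain ⟨c, hc⟩ := Ideal.Quotient.mk_surjective (u b)
        simp [← hc]⟩
  | succ n ih =>
    intro C _ _ J hJ ha u hu
    let K : Ideal C := (J ⊔ 𝔞.map (algebraMap A C)) * J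
    have hKJ : K ≤ J := Ideal.mul_le_right
    let π := Ideal.Quotient.mkₐ A K
    let J' : Ideal (C ⧸ K) := J.map (Ideal.Quotient.mk K)
    have hJ'1 : J' * J' = ⊥ := by
      rw [← Ideal.map_mul, Ideal.map_eq_bot_iff_le_ker, Ideal.mk_ker]
      exact Ideal.mul_mono_left le_sup_left
    have hJ'2 : 𝔞.map (algebraMap A (C ⧸ K)) * J' = ⊥ := by
      rw [show algebraMap A (C ⧸ K) = (Ideal.Quotient.mk K).comp (algebraMap A C) from rfl,
        ← Ideal.map_map, ← Ideal.map_mul, Ideal.map_eq_bot_iff_le_ker, Ideal.mk_ker]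
      exact Ideal.mul_mono_left le_sup_right
    obtain ⟨k, hk⟩ := ha
    have ha' : (𝔞 ^ k).map (algebraMap A (C ⧸ K)) = ⊥ := by
      rw [show algebraMap A (C ⧸ K) = (Ideal.Quotient.mk K).comp (algebraMap A C) from rfl,
        ← Ideal.map_map, hk, Ideal.map_bot]
    let e : ((C ⧸ K) ⧸ J') ≃ₐ[A] C ⧸ J :=
      DoubleQuot.quotQuotEquivQuotOfLEₐ A hKJ
    obtain ⟨m, hm⟩ := hu
    obtain ⟨v₁, hv₁⟩ := h (C ⧸ K) J' hJ'1 hJ'2 ⟨k, ha'⟩ (e.symm.toAlgHom.comp u)
      ⟨m, fun x hx ↦ by simp [hm x hx]⟩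
    have hv₁' : ∀ b, Ideal.Quotient.mk J' (v₁ b) = e.symm (u b) := fun b ↦
      AlgHom.congr_fun hv₁ b
    have hcont : ∀ x ∈ 𝔟 ^ (m + m), v₁ x = 0 := fun x hx ↦ by
      rw [pow_add] at hx
      refine Submodule.mul_induction_on hx (fun a ha b hb ↦ ?_) fun a b ha hb ↦ by
        rw [map_add, ha, hb, add_zero]
      have key : ∀ a ∈ 𝔟 ^ m, v₁ a ∈ J' := fun a ha ↦ by
        rw [← Ideal.Quotient.eq_zero_iff_mem, hv₁', hm a ha, map_zero]
      rw [map_mul]
      exact Ideal.mem_bot.1 (hJ'1 ▸ Ideal.mul_mem_mul (key a ha) (key b hb))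
    obtain ⟨v, hv⟩ := ih C K (by
      refine le_bot_iff.1 (le_trans ?_ hJ.le)
      rw [pow_succ, mul_assoc]
      exact Ideal.mul_mono (Ideal.pow_right_mono (sup_le_sup_right hKJ _) n) le_rfl) ⟨k, hk⟩ v₁
      ⟨m + m, hcont⟩
    refine ⟨v, AlgHom.ext fun b ↦ ?_⟩
    have h1 : Ideal.Quotient.mk K (v b) = v₁ b := AlgHom.congr_fun hv b
    change Ideal.Quotient.mk J (v b) = u b
    rw [← e.apply_symm_apply (u b), ← hv₁', ← h1]
    rfl

/-- EGA 0, 19.3.?: base change of adic formal smoothness to a quotient by an ideal of definition. -/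
theorem quotient_of_smooth (h : IsFormallySmoothAdic A 𝔞 B 𝔟) :
    IsFormallySmoothAdic (A ⧸ 𝔞) ⊥ (B ⧸ 𝔞.map (algebraMap A B))
      (𝔟.map (Ideal.Quotient.mk (𝔞.map (algebraMap A B)))) := by
  intro C _ _ J hJ _ u hu
  letI : Algebra A C := ((algebraMap (A ⧸ 𝔞) C).comp (Ideal.Quotient.mk 𝔞)).toAlgebra
  haveI : IsScalarTower A (A ⧸ 𝔞) C := IsScalarTower.of_algebraMap_eq fun _ ↦ rfl
  have h0 : ∀ a ∈ 𝔞, algebraMap A C a = 0 := fun a ha ↦ by
    change algebraMap (A ⧸ 𝔞) C (Ideal.Quotient.mk 𝔞 a) = 0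
    rw [Ideal.Quotient.eq_zero_iff_mem.2 ha, map_zero]
  let u₀ : B →ₐ[A] C ⧸ J :=
    { u.toRingHom.comp (Ideal.Quotient.mk (𝔞.map (algebraMap A B))) with
      commutes' := fun a ↦ u.commutes (Ideal.Quotient.mk 𝔞 a) }
  obtain ⟨m, hm⟩ := hu
  obtain ⟨v, hv⟩ := h C J hJ ⟨1, by
    rw [pow_one, Ideal.map_eq_bot_iff_le_ker]; exact fun a ha ↦ RingHom.mem_ker.2 (h0 a ha)⟩ u₀
    ⟨m, fun x hx ↦ hm _ (by rw [← Ideal.map_pow]; exact Ideal.mem_map_of_mem _ hx)⟩
  refine ⟨{ Ideal.Quotient.lift (𝔞.map (algebraMap A B)) v.toRingHom (fun b hb ↦ ?_) with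
    commutes' := fun a ↦ ?_ }, AlgHom.ext fun b ↦ ?_⟩
  · exact (show 𝔞.map (algebraMap A B) ≤ RingHom.ker v.toRingHom from
      Ideal.map_le_iff_le_comap.2 fun a ha ↦ RingHom.mem_ker.2 ((v.commutes a).trans (h0 a ha))) hb
  · obtain ⟨a, rfl⟩ := Ideal.Quotient.mk_surjective a
    exact v.commutes a
  · obtain ⟨b, rfl⟩ := Ideal.Quotient.mk_surjective b
    exact AlgHom.congr_fun hv b

/-- A formally projective algebra, formally smooth modulo `𝔞`, is formally smooth. -/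
theorem smooth_of_quotient
    (hproj : ∀ (n : ℕ) (P Q : Type u) [AddCommGroup P] [Module A P] [AddCommGroup Q] [Module A Q],
      (∀ a ∈ 𝔞 ^ n, ∀ y : P, a • y = 0) → (∀ a ∈ 𝔞 ^ n, ∀ y : Q, a • y = 0) →
      ∀ f : P →ₗ[A] Q, Function.Surjective f → ∀ v : B →ₗ[A] Q, (∃ m : ℕ, ∀ x ∈ 𝔟 ^ m, v x = 0) →
        ∃ w : B →ₗ[A] P, (∃ m : ℕ, ∀ x ∈ 𝔟 ^ m, w x = 0) ∧ f ∘ₗ w = v)
    (h : IsFormallySmoothAdic (A ⧸ 𝔞) ⊥ (B ⧸ 𝔞.map (algebraMap A B))
      (𝔟.map (Ideal.Quotient.mk (𝔞.map (algebraMap A B))))) :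
    IsFormallySmoothAdic A 𝔞 B 𝔟 := by
  refine of_special fun C _ _ J hJ2 haJ ⟨k, hk⟩ u ⟨m₀, hm₀⟩ ↦ ?_
  have hkill : ∀ a ∈ 𝔞 ^ k, algebraMap A C a = 0 := fun a ha ↦
    Ideal.mem_bot.1 (hk ▸ Ideal.mem_map_of_mem _ ha)
  obtain ⟨w, ⟨m₁, hm₁⟩, hw⟩ := hproj k C (C ⧸ J)
    (fun a ha y ↦ by rw [Algebra.smul_def, hkill a ha, zero_mul])
    (fun a ha y ↦ by
      obtain ⟨y, rfl⟩ := Ideal.Quotient.mk_surjective y
      rw [← Ideal.Quotient.mkₐ_eq_mk A, ← map_smul, Algebra.smul_def, hkill a ha, zero_mul,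
        map_zero])
    (Ideal.Quotient.mkₐ A J).toLinearMap Ideal.Quotient.mk_surjective u.toLinearMap ⟨m₀, hm₀⟩
  have hwu : ∀ b, Ideal.Quotient.mk J (w b) = u b := fun b ↦ LinearMap.congr_fun hw b
  let m := m₀ + m₁
  have hmu : ∀ x ∈ 𝔟 ^ m, u x = 0 := fun x hx ↦
    hm₀ x (Ideal.pow_le_pow_right (Nat.le_add_right _ _) hx)
  have hmw : ∀ x ∈ 𝔟 ^ m, w x = 0 := fun x hx ↦
    hm₁ x (Ideal.pow_le_pow_right (Nat.le_add_left _ _) hx)
  have hJJ : ∀ x ∈ J, ∀ y ∈ J, x * y = 0 := fun x hx y hy ↦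
    Ideal.mem_bot.1 (hJ2 ▸ Ideal.mul_mem_mul hx hy)
  have haJ' : ∀ a ∈ 𝔞, ∀ y ∈ J, algebraMap A C a * y = 0 := fun a ha y hy ↦
    Ideal.mem_bot.1 (haJ ▸ Ideal.mul_mem_mul (Ideal.mem_map_of_mem _ ha) hy)
  -- for `x` in `𝔞B + 𝔟^m`: `w` is `B`-linear along `x` up to the error term, and `x` kills `J`
  let I : Ideal B := 𝔞.map (algebraMap A B) ⊔ 𝔟 ^ m
  let S : Submodule A B :=
    { carrier := {x | (∀ b, w (x * b) = w x * w b) ∧ ∀ j ∈ J, w x * j = 0}
      add_mem' := fun {x y} hx hy ↦ ⟨fun b ↦ by rw [add_mul, map_add, map_add, hx.1, hy.1, add_mul],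
        fun j hj ↦ by rw [map_add, add_mul, hx.2 j hj, hy.2 j hj, add_zero]⟩
      zero_mem' := ⟨fun b ↦ by simp, fun j _ ↦ by simp⟩
      smul_mem' := fun a x hx ↦ ⟨fun b ↦ by
          rw [smul_mul_assoc, map_smul, map_smul, hx.1, smul_mul_assoc],
        fun j hj ↦ by rw [map_smul, smul_mul_assoc, hx.2 j hj, smul_zero]⟩ }
  have hmem : ∀ a ∈ 𝔞, ∀ b, a • b ∈ S := by
    intro a ha b
    refine ⟨fun c ↦ ?_, fun j hj ↦ by rw [map_smul, smul_mul_assoc, Algebra.smul_def,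
      haJ' a ha _ (J.mul_mem_left _ hj)]⟩
    rw [smul_mul_assoc, map_smul, map_smul, smul_mul_assoc, ← sub_eq_zero, ← smul_sub,
      Algebra.smul_def]
    refine haJ' a ha _ ((Ideal.Quotient.eq).1 ?_)
    rw [map_mul (Ideal.Quotient.mk J), hwu, hwu, hwu, map_mul u]
  have hIS : ∀ x ∈ I, x ∈ S := by
    intro x hx
    obtain ⟨y, hy, z, hz, rfl⟩ := Submodule.mem_sup.1 hx
    refine S.add_mem ?_ ⟨fun b ↦ by rw [hmw z hz, zero_mul, hmw _ (Ideal.mul_mem_right b _ hz)],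
      fun j _ ↦ by rw [hmw z hz, zero_mul]⟩
    rw [Ideal.map, Ideal.span] at hy
    refine Submodule.span_induction (p := fun y _ ↦ y ∈ S) ?_ S.zero_mem
      (fun y y' _ _ h h' ↦ S.add_mem h h') (fun c y hy _ ↦ ?_) hy
    · rintro _ ⟨a, ha, rfl⟩
      rw [Algebra.algebraMap_eq_smul_one]
      exact hmem a ha 1
    · refine Submodule.span_induction (p := fun y _ ↦ c • y ∈ S) ?_ (by simp)
        (fun y y' _ _ h h' ↦ by rw [smul_add]; exact S.add_mem h h') (fun c' y hy' h ↦ ?_) hy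
      · rintro _ ⟨a, ha, rfl⟩
        rw [smul_eq_mul, mul_comm, ← Algebra.smul_def]
        exact hmem a ha c
      · have : ∀ d : B, d • y ∈ S := fun d ↦ by
          refine Submodule.span_induction (p := fun y _ ↦ ∀ d : B, d • y ∈ S) ?_ (by simp)
            (fun y y' _ _ h h' d ↦ by rw [smul_add]; exact S.add_mem (h d) (h' d))
            (fun e y _ h d ↦ by rw [smul_smul]; exact h _) hy' d
          rintro _ ⟨a, ha, rfl⟩ d
          rw [smul_eq_mul, mul_comm, ← Algebra.smul_def]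
          exact hmem a ha d
        rw [smul_smul]
        exact this _
  -- the extension
  obtain ⟨E, _, _, ι, hι, hmk, hE⟩ : ∃ (E : Type u) (_ : CommRing E) (_ : Algebra A E)
      (ι : E →ₐ[A] C × B), Function.Injective ι ∧
        (∀ p : C × B, Ideal.Quotient.mk J p.1 = u p.2 → ∃ e, ι e = p) ∧
        ∀ e, Ideal.Quotient.mk J (ι e).1 = u (ι e).2 :=
    let E₀ : Subalgebra A (C × B) := AlgHom.equalizer
      ((Ideal.Quotient.mkₐ A J).comp (AlgHom.fst A C B)) (u.comp (AlgHom.snd A C B))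
    ⟨E₀, inferInstance, inferInstance, E₀.val, Subtype.val_injective,
      fun p hp ↦ ⟨⟨p, hp⟩, rfl⟩, fun e ↦ e.2⟩
  let N : Ideal E :=
    { carrier := {e | (ι e).2 ∈ I ∧ (ι e).1 = w (ι e).2}
      add_mem' := fun {x y} hx hy ↦ ⟨by rw [map_add]; exact I.add_mem hx.1 hy.1, by
        rw [map_add, Prod.fst_add, Prod.snd_add, map_add, hx.2, hy.2]⟩
      zero_mem' := ⟨by rw [map_zero]; exact I.zero_mem, by simp⟩
      smul_mem' := fun c e he ↦ ⟨by rw [smul_eq_mul, map_mul]; exact I.mul_mem_left _ he.1, by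
        rw [smul_eq_mul, map_mul, Prod.fst_mul, Prod.snd_mul]
        rw [mul_comm (ι c).2, (hIS _ he.1).1, he.2]
        have : (ι c).1 - w (ι c).2 ∈ J := (Ideal.Quotient.eq).1 (by rw [hE, hwu])
        have := (hIS _ he.1).2 _ this
        linear_combination this⟩ }
  let F := E ⧸ N
  have hEa : ∀ a ∈ 𝔞, algebraMap A F a = 0 := by
    intro a ha
    rw [show algebraMap A F a = Ideal.Quotient.mk N (algebraMap A E a) from rfl,
      Ideal.Quotient.eq_zero_iff_mem]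
    refine ⟨?_, ?_⟩ <;> rw [ι.commutes, Prod.algebraMap_apply] <;> dsimp only
    · exact Ideal.mem_sup_left (Ideal.mem_map_of_mem _ ha)
    rw [Algebra.algebraMap_eq_smul_one (A := B), map_smul, Algebra.smul_def]
    have h1 : w 1 - 1 ∈ J := (Ideal.Quotient.eq).1 (by rw [hwu, map_one, map_one])
    linear_combination -(haJ' a ha _ h1)
  let φ : (A ⧸ 𝔞) →+* F := Ideal.Quotient.lift 𝔞 (algebraMap A F) hEa
  letI alg : Algebra (A ⧸ 𝔞) F := φ.toAlgebra
  let B₀ := B ⧸ 𝔞.map (algebraMap A B)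
  let pr : F →+* B ⧸ I :=
    Ideal.Quotient.lift N ((Ideal.Quotient.mk I).comp ((AlgHom.snd A C B).comp ι).toRingHom)
      fun e he ↦ Ideal.Quotient.eq_zero_iff_mem.2 he.1
  have hprmk : ∀ e : E, pr (Ideal.Quotient.mk N e) = Ideal.Quotient.mk I (ι e).2 :=
    fun e ↦ rfl
  have hpr : Function.Surjective pr := fun y ↦ by
    obtain ⟨b, rfl⟩ := Ideal.Quotient.mk_surjective y
    obtain ⟨e, he⟩ := hmk (w b, b) (hwu b)
    exact ⟨Ideal.Quotient.mk N e, by rw [hprmk, he]⟩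
  have hker : RingHom.ker pr * RingHom.ker pr = ⊥ := by
    rw [eq_bot_iff, Ideal.mul_le]
    intro x hx y hy
    obtain ⟨x, rfl⟩ := Ideal.Quotient.mk_surjective x
    obtain ⟨y, rfl⟩ := Ideal.Quotient.mk_surjective y
    rw [RingHom.mem_ker, hprmk, Ideal.Quotient.eq_zero_iff_mem] at hx hy
    rw [Ideal.mem_bot, ← map_mul, Ideal.Quotient.eq_zero_iff_mem]
    refine ⟨by rw [map_mul]; exact I.mul_mem_left _ hy, ?_⟩
    rw [map_mul, Prod.fst_mul, Prod.snd_mul, (hIS _ hx).1]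
    have h1 : (ι x).1 - w (ι x).2 ∈ J := (Ideal.Quotient.eq).1 (by rw [hE, hwu])
    have h2 : (ι y).1 - w (ι y).2 ∈ J := (Ideal.Quotient.eq).1 (by rw [hE, hwu])
    linear_combination hJJ _ h1 _ h2 + (hIS _ hy).2 _ h1 + (hIS _ hx).2 _ h2
  let JF : Ideal F := RingHom.ker pr
  let q : B₀ →+* F ⧸ JF :=
    ((RingHom.quotientKerEquivOfSurjective hpr).symm : B ⧸ I →+* F ⧸ JF).comp
      (Ideal.Quotient.factor le_sup_left)
  have hq : ∀ e : E, q (Ideal.Quotient.mk _ (ι e).2) =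
      Ideal.Quotient.mk JF (Ideal.Quotient.mk N e) := fun e ↦ by
    change (RingHom.quotientKerEquivOfSurjective hpr).symm (Ideal.Quotient.mk I (ι e).2) = _
    rw [RingEquiv.symm_apply_eq]
    rfl
  let q' : B₀ →ₐ[A ⧸ 𝔞] F ⧸ JF :=
    { q with
      commutes' := fun a ↦ by
        obtain ⟨a, rfl⟩ := Ideal.Quotient.mk_surjective a
        have := hq (algebraMap A E a)
        rw [ι.commutes] at this
        exact this }
  obtain ⟨s, hs⟩ := h F JF ⟨2, by rw [pow_two, hker, Ideal.zero_eq_bot]⟩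
    ⟨1, by rw [pow_one, Ideal.map_bot]⟩ q' ⟨m, fun x hx ↦ by
      obtain ⟨b, rfl⟩ := Ideal.Quotient.mk_surjective x
      rw [← Ideal.map_pow, Ideal.mem_map_iff_of_surjective _ Ideal.Quotient.mk_surjective] at hx
      obtain ⟨z, hz, hzb⟩ := hx
      rw [← hzb]
      obtain ⟨e, he⟩ := hmk (0, z) (by rw [map_zero, hmu z hz])
      have h2 := hq e
      rw [he] at h2
      exact h2.trans (Ideal.Quotient.eq_zero_iff_mem.2 (RingHom.mem_ker.2 (by
        rw [hprmk, he]; exact Ideal.Quotient.eq_zero_iff_mem.2 (Ideal.mem_sup_right hz))))⟩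
  -- the lift is the first component over the graph of `s`
  have hlift : ∀ b : B, ∃! e : E, (ι e).2 = b ∧
      Ideal.Quotient.mk N e = s (Ideal.Quotient.mk _ b) := by
    intro b
    obtain ⟨e₀, he₀⟩ := Ideal.Quotient.mk_surjective (s (Ideal.Quotient.mk _ b))
    have h1 : Ideal.Quotient.mk JF (Ideal.Quotient.mk N e₀) = q' (Ideal.Quotient.mk _ b) := by
      rw [he₀]
      exact AlgHom.congr_fun hs (Ideal.Quotient.mk _ b)
    have h2 : (ι e₀).2 - b ∈ I := by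
      have h3 : pr (Ideal.Quotient.mk N e₀) = Ideal.Quotient.mk I b := by
        have := congrArg (RingHom.quotientKerEquivOfSurjective hpr) h1
        change pr (Ideal.Quotient.mk N e₀) = (RingHom.quotientKerEquivOfSurjective hpr)
          ((RingHom.quotientKerEquivOfSurjective hpr).symm (Ideal.Quotient.mk I b)) at this
        rwa [RingEquiv.apply_symm_apply] at this
      exact (Ideal.Quotient.eq).1 h3
    obtain ⟨d, hd'⟩ := hmk (w ((ι e₀).2 - b), (ι e₀).2 - b) (hwu _)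
    have hd : d ∈ N := ⟨by rw [hd']; exact h2, by rw [hd']⟩
    refine ⟨e₀ - d, ⟨?_, ?_⟩, fun e he ↦ ?_⟩
    · rw [map_sub, Prod.snd_sub, hd']
      simp
    · rw [map_sub, he₀, Ideal.Quotient.eq_zero_iff_mem.2 hd, sub_zero]
    · have h4 : e - (e₀ - d) ∈ N := by
        rw [← Ideal.Quotient.eq, he.2, map_sub, Ideal.Quotient.eq_zero_iff_mem.2 hd, sub_zero, he₀]
      have h5 : (ι e).2 - ((ι e₀).2 - ((ι e₀).2 - b)) = 0 := by
        rw [he.1]; abel
      apply hι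
      have h6 : (ι e).2 = (ι (e₀ - d)).2 := by
        rw [map_sub, Prod.snd_sub, hd']
        exact sub_eq_zero.1 h5
      refine Prod.ext ?_ h6
      have := h4.2
      rw [map_sub ι e (e₀ - d), Prod.fst_sub, Prod.snd_sub, h6, sub_self, map_zero,
        sub_eq_zero] at this
      exact this
  choose L hL hLu using hlift
  have hLmap : ∀ (b b' : B), L (b * b') = L b * L b' ∧ L (b + b') = L b + L b' := fun b b' ↦ by
    constructor
    · refine (hLu _ _ ⟨?_, by rw [map_mul, (hL b).2, (hL b').2, map_mul, map_mul]⟩).symm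
      rw [map_mul ι, Prod.snd_mul]
      rw [(hL b).1, (hL b').1]
    · refine (hLu _ _ ⟨?_, by rw [map_add, (hL b).2, (hL b').2, map_add, map_add]⟩).symm
      rw [map_add ι, Prod.snd_add]
      rw [(hL b).1, (hL b').1]
  have hLalg : ∀ a : A, L (algebraMap A B a) = algebraMap A E a := fun a ↦
    (hLu _ _ ⟨by rw [ι.commutes]; rfl, (s.commutes (Ideal.Quotient.mk 𝔞 a)).symm⟩).symm
  let Lh : B →ₐ[A] E :=
    { toFun := L
      map_one' := by simpa using hLalg 1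
      map_mul' := fun b b' ↦ (hLmap b b').1
      map_zero' := by simpa using hLalg 0
      map_add' := fun b b' ↦ (hLmap b b').2
      commutes' := hLalg }
  refine ⟨(AlgHom.fst A C B).comp (ι.comp Lh), AlgHom.ext fun b ↦ ?_⟩
  change Ideal.Quotient.mk J (ι (L b)).1 = u b
  rw [hE, (hL b).1]

/-- A faithfully flat projective algebra has a retraction. -/
theorem exists_retraction (A' : Type u) [CommRing A'] [Algebra A A'] [Module.FaithfullyFlat A A']
    [Module.Projective A A'] : ∃ ρ : A' →ₗ[A] A, ρ 1 = 1 := by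
  let E : (A' →ₗ[A] A) →ₗ[A] A := LinearMap.applyₗ (1 : A')
  by_contra hne
  push Not at hne
  have hI : LinearMap.range E ≠ ⊤ := fun h ↦ by
    obtain ⟨ρ, hρ⟩ := LinearMap.range_eq_top.1 h 1
    exact hne ρ hρ
  obtain ⟨𝔪, h𝔪, hle⟩ := Ideal.exists_le_maximal (LinearMap.range E : Ideal A) hI
  obtain ⟨s, hs⟩ := Module.projective_def'.1 (inferInstance : Module.Projective A A')
  apply Module.FaithfullyFlat.submodule_ne_top (M := A') h𝔪
  rw [eq_top_iff]
  intro x _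
  have h1 : (1 : A') ∈ (𝔪 • ⊤ : Submodule A A') := by
    have := LinearMap.congr_fun hs 1
    simp only [LinearMap.comp_apply, LinearMap.id_apply] at this
    rw [← this, Finsupp.linearCombination_apply]
    exact Submodule.sum_mem _ fun e _ ↦
      Submodule.smul_mem_smul (hle ⟨(Finsupp.lapply e) ∘ₗ s, rfl⟩) trivial
  have := Submodule.smul_top_le_comap_smul_top 𝔪 (LinearMap.mulLeft A x) h1
  simpa using this

variable (A' : Type u) [CommRing A'] [Algebra A A']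

/-- Base change. -/
theorem tensor_of_smooth (h : IsFormallySmoothAdic A 𝔞 B 𝔟) :
    IsFormallySmoothAdic A' (𝔞.map (algebraMap A A')) (A' ⊗[A] B)
      ((𝔞.map (algebraMap A A')).map (algebraMap A' (A' ⊗[A] B)) ⊔
        𝔟.map (Algebra.TensorProduct.includeRight : B →ₐ[A] A' ⊗[A] B).toRingHom) := by
  intro C _ _ J hJ ⟨k, hk⟩ u ⟨m, hm⟩
  letI : Algebra A C := ((algebraMap A' C).comp (algebraMap A A')).toAlgebra
  haveI : IsScalarTower A A' C := IsScalarTower.of_algebraMap_eq fun _ ↦ rfl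
  obtain ⟨v, hv⟩ := h C J hJ ⟨k, by
      change (𝔞 ^ k).map ((algebraMap A' C).comp (algebraMap A A')) = ⊥
      rw [← Ideal.map_map, Ideal.map_pow (algebraMap A A'), hk]⟩
    ((u.restrictScalars A).comp Algebra.TensorProduct.includeRight) ⟨m, fun x hx ↦ hm _
      (Ideal.pow_right_mono le_sup_right m (by
        rw [← Ideal.map_pow]; exact Ideal.mem_map_of_mem _ hx))⟩
  refine ⟨Algebra.TensorProduct.lift (Algebra.ofId A' C) v fun _ _ ↦ Commute.all _ _, ?_⟩
  refine Algebra.TensorProduct.ext (Subsingleton.elim _ _) (AlgHom.ext fun b ↦ ?_)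
  have := AlgHom.congr_fun hv b
  simp only [AlgHom.comp_apply, Ideal.Quotient.mkₐ_eq_mk, AlgHom.restrictScalars_apply,
    Algebra.TensorProduct.includeRight_apply, Algebra.TensorProduct.lift_tmul, map_one,
    one_mul] at this ⊢
  exact this

/-- Descent along an algebra with a retraction. -/
theorem smooth_of_tensor (ρ : A' →ₗ[A] A) (hρ : ρ 1 = 1)
    (h : IsFormallySmoothAdic A' (𝔞.map (algebraMap A A')) (A' ⊗[A] B)
      ((𝔞.map (algebraMap A A')).map (algebraMap A' (A' ⊗[A] B)) ⊔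
        𝔟.map (Algebra.TensorProduct.includeRight : B →ₐ[A] A' ⊗[A] B).toRingHom)) :
    IsFormallySmoothAdic A 𝔞 B 𝔟 := by
  refine of_special fun C _ _ J hJ2 _ ⟨k, hk⟩ u ⟨m, hm⟩ ↦ ?_
  let π : A' ⊗[A] C →ₐ[A'] A' ⊗[A] (C ⧸ J) :=
    Algebra.TensorProduct.map (AlgHom.id A' A') (Ideal.Quotient.mkₐ A J)
  have hπ : Function.Surjective π := fun z ↦ by
    obtain ⟨y, hy⟩ := LinearMap.lTensor_surjective A'
      (g := (Ideal.Quotient.mkₐ A J).toLinearMap) Ideal.Quotient.mk_surjective z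
    refine ⟨y, ?_⟩
    rw [← hy]
    clear hy
    induction y using TensorProduct.induction_on with
    | zero => simp
    | tmul a c => rfl
    | add a b ha hb => rw [map_add, map_add, ha, hb]
  let J' : Ideal (A' ⊗[A] C) := J.map Algebra.TensorProduct.includeRight
  have hker : RingHom.ker π = J' := by
    rw [show (RingHom.ker π : Ideal _) = RingHom.ker (Algebra.TensorProduct.map (AlgHom.id A A')
      (Ideal.Quotient.mkₐ A J)) from rfl,
      Algebra.TensorProduct.lTensor_ker _ Ideal.Quotient.mk_surjective, show RingHom.ker (Ideal.Quotient.mkₐ A J) = J from Ideal.mk_ker]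
  have hJ'2 : RingHom.ker π * RingHom.ker π = ⊥ := by
    rw [hker, ← Ideal.map_mul, hJ2, Ideal.map_bot]
  let e : ((A' ⊗[A] C) ⧸ RingHom.ker π) ≃ₐ[A'] A' ⊗[A] (C ⧸ J) :=
    Ideal.quotientKerAlgEquivOfSurjective hπ
  let u' : A' ⊗[A] B →ₐ[A'] A' ⊗[A] (C ⧸ J) := Algebra.TensorProduct.map (AlgHom.id A' A') u
  have hk' : ((𝔞.map (algebraMap A A')) ^ k).map (algebraMap A' (A' ⊗[A] (C ⧸ J))) = ⊥ := by
    rw [← Ideal.map_pow, Ideal.map_map, ← IsScalarTower.algebraMap_eq,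
      Ideal.map_eq_bot_iff_le_ker]
    intro a ha
    have h0 : algebraMap A (C ⧸ J) a = 0 := by
      have h00 : algebraMap A C a = 0 := Ideal.mem_bot.1 (hk ▸ Ideal.mem_map_of_mem _ ha)
      rw [IsScalarTower.algebraMap_apply A C (C ⧸ J), h00, map_zero]
    rw [RingHom.mem_ker, Algebra.TensorProduct.algebraMap_apply' a, h0, TensorProduct.tmul_zero]
  obtain ⟨v', hv'⟩ := h (A' ⊗[A] C) (RingHom.ker π) ⟨2, by
      rw [pow_two, hJ'2, Ideal.zero_eq_bot]⟩ ⟨k, by
      rw [← Ideal.map_pow, Ideal.map_map, ← IsScalarTower.algebraMap_eq,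
        Ideal.map_eq_bot_iff_le_ker]
      intro a ha
      have h0 : algebraMap A C a = 0 :=
        Ideal.mem_bot.1 (hk ▸ Ideal.mem_map_of_mem _ ha)
      rw [RingHom.mem_ker, Algebra.TensorProduct.algebraMap_apply' a, h0, TensorProduct.tmul_zero]⟩
    (e.symm.toAlgHom.comp u') ⟨k + m, fun x hx ↦ by
      have h1 := Ideal.sup_pow_add_le_pow_sup_pow hx
      have h2 : x ∈ RingHom.ker u' := by
        refine (sup_le ?_ ?_ : _ ≤ RingHom.ker u') h1
        · rw [← Ideal.map_pow, Ideal.map_le_iff_le_comap]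
          intro a ha
          change u' (algebraMap A' (A' ⊗[A] B) a) = 0
          rw [AlgHom.commutes]
          exact Ideal.mem_bot.1 (hk' ▸ Ideal.mem_map_of_mem _ ha)
        · rw [← Ideal.map_pow, Ideal.map_le_iff_le_comap]
          intro b hb
          change u' ((1 : A') ⊗ₜ[A] b) = 0
          simp [u', hm b hb]
      rw [AlgHom.comp_apply, RingHom.mem_ker.1 h2, map_zero]⟩
  have hv : ∀ b : B, π (v' ((1 : A') ⊗ₜ[A] b)) = (1 : A') ⊗ₜ[A] u b := fun b ↦ by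
    have h1 := congrArg e (AlgHom.congr_fun hv' ((1 : A') ⊗ₜ[A] b))
    simp only [AlgHom.comp_apply, Ideal.Quotient.mkₐ_eq_mk] at h1
    change π (v' ((1 : A') ⊗ₜ[A] b)) = e (e.symm (u' ((1 : A') ⊗ₜ[A] b))) at h1
    rw [AlgEquiv.apply_symm_apply] at h1
    simpa [u'] using h1
  let R : A' ⊗[A] C →ₗ[A] C := (TensorProduct.lid A C).toLinearMap ∘ₗ LinearMap.rTensor C ρ
  have hR1 : ∀ c, R ((1 : A') ⊗ₜ[A] c) = c := fun c ↦ by simp [R, hρ]
  have hRmul : ∀ (c : C) z, R (((1 : A') ⊗ₜ[A] c) * z) = c * R z := by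
    intro c z
    induction z using TensorProduct.induction_on with
    | zero => simp
    | tmul a d => simp [R]
    | add a b ha hb => rw [mul_add, map_add, map_add, ha, hb, mul_add]
  let T : B →ₗ[A] A' ⊗[A] C :=
    (v'.restrictScalars A).toLinearMap ∘ₗ
      (Algebra.TensorProduct.includeRight : B →ₐ[A] A' ⊗[A] B).toLinearMap
  let w : B →ₗ[A] C := R ∘ₗ T
  have hwu : ∀ b, Ideal.Quotient.mk J (w b) = u b := fun b ↦ by
    have e1 : ∀ z, Ideal.Quotient.mk J (R z) =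
        (TensorProduct.lid A (C ⧸ J)) (LinearMap.rTensor (C ⧸ J) ρ (π z)) := by
      intro z
      induction z using TensorProduct.induction_on with
      | zero => simp
      | tmul a d => simp [R, π]; rfl
      | add a b ha hb => simp only [map_add, ha, hb]
    change Ideal.Quotient.mk J (R (v' ((1 : A') ⊗ₜ[A] b))) = _
    rw [e1, hv]
    simp [hρ]
  have hε : ∀ b, T b - (1 : A') ⊗ₜ[A] w b ∈ RingHom.ker π := fun b ↦ by
    rw [RingHom.mem_ker, map_sub, sub_eq_zero]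
    refine (hv b).trans ?_
    simp [π, hwu]
  have hTmul : ∀ b b', T (b * b') = T b * T b' := fun b b' ↦ by simp [T, ← map_mul v']
  have hmul : ∀ b b', w (b * b') = w b * w b' := fun b b' ↦ by
    have h0 := Ideal.mem_bot.1 (hJ'2 ▸ Ideal.mul_mem_mul (hε b) (hε b'))
    have e2 : T (b * b') = ((1 : A') ⊗ₜ[A] w b) * T b' + ((1 : A') ⊗ₜ[A] w b') * T b -
        (1 : A') ⊗ₜ[A] (w b * w b') := by
      rw [hTmul, show (1 : A') ⊗ₜ[A] (w b * w b') = ((1 : A') ⊗ₜ[A] w b) * ((1 : A') ⊗ₜ[A] w b') by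
        simp]
      linear_combination h0
    change R (T (b * b')) = _
    rw [e2, map_sub, map_add, hRmul, hRmul, hR1]
    change w b * w b' + w b' * w b - w b * w b' = _
    ring
  have hone : w 1 = 1 := by
    have : T 1 = 1 := by
      change v' ((1 : A') ⊗ₜ[A] (1 : B)) = 1
      rw [← Algebra.TensorProduct.one_def, map_one]
    change R (T 1) = 1
    rw [this, Algebra.TensorProduct.one_def, hR1]
  exact ⟨AlgHom.ofLinearMap w hone hmul, AlgHom.ext hwu⟩

end Groth.Agent.Lib.AdicSmoothModule
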